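import Groth.Agent.EtPBCDLib.Compact
import Groth.Agent.EtCompLib.Main
import Groth.Agent.FiltSectLib.Coprod
import Groth.Agent.IndCohLib.GenColim

/-!
# Direct sums of uniformly bounded below objects and derived direct images
-/

set_option autoImplicit false
set_option linter.all false
set_option backward.isDefEq.respectTransparency false
set_option backward.isDefEq.respectTransparency.types false
set_option maxHeartbeats 1000000
set_option synthInstance.maxHeartbeats 400000

universe u

open CategoryTheory CategoryTheory.Limits AlgebraicGeometry Opposite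
open Groth.Agent Groth.Agent.EtShLib EtPBCProperLib

attribute [local instance] HasDerivedCategory.standard EtSliceLib.pullExact EtPBCDLib.preservesFiniteLimits_push
  EtPBCDLib.preservesFiniteColimits_extZero CategoryTheory.Abelian.hasFiniteBiproducts

noncomputable section

namespace EtPBCDLib

variable {X Y : Scheme.{u}} (f : X ⟶ Y) [QuasiCompact f] [QuasiSeparated f]

theorem epi_push_map_of_cechAcyclicQ {S : ShortComplex (EtCoh.Ab X)} (hS : S.ShortExact) (h : CechAcyclicQ S.X₁) :
    Epi ((EtCoh.push f).map S.g) := by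
  refine (epi_iff_stalks (A := AddCommGrpCat.{u + 1}) _).2 fun Ω _ _ ξ => ?_
  rw [AddCommGrpCat.epi_iff_surjective]
  intro p
  obtain ⟨U, u₀, x, rfl⟩ := exists_germ (A := AddCommGrpCat.{u + 1}) ξ p
  obtain ⟨V, g, v, hV, rfl⟩ := exists_affine_below' ξ U u₀
  haveI := hV
  obtain ⟨y, hy⟩ := surjective_sections hS h (bc_mem_qcqsObj f (V := V)) (((EtCoh.push f).obj S.X₃).obj.map g.op x)
  refine ⟨germ (A := AddCommGrpCat.{u + 1}) ξ ((EtCoh.push f).obj S.X₂) V v y, ?_⟩
  rw [germ_natural_apply, ← germ_res_apply]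
  exact congrArg _ hy

theorem isZero_Rpush_cechAcyclicQ : ∀ (q : ℕ) (G : EtCoh.Ab X), CechAcyclicQ G →
    IsZero ((EtCoh.Rpush f (q + 1)).obj G) := by
  haveI : (EtCoh.push f).Additive := { }
  intro q
  induction q with
  | zero =>
    intro G hG
    let T := CohLib.injSC G
    have hT : T.ShortExact := CohLib.injSC_shortExact G
    haveI : Injective T.X₂ := inferInstanceAs (Injective (Injective.under G))
    exact Groth.Agent.RDerLib.isZero_X₁_succ (F := EtCoh.push f) hT 0
      ((EtCoh.push f).isZero_rightDerived_obj_injective_succ 0 T.X₂)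
      ((Groth.Agent.RDerLib.epi_map_g_iff _).2 (epi_push_map_of_cechAcyclicQ f hT hG))
  | succ q ih =>
    intro G hG
    let T := CohLib.injSC G
    have hT : T.ShortExact := CohLib.injSC_shortExact G
    haveI : Injective T.X₂ := inferInstanceAs (Injective (Injective.under G))
    exact Groth.Agent.RDerLib.isZero_X₁_succ (F := EtCoh.push f) hT (q + 1)
      ((EtCoh.push f).isZero_rightDerived_obj_injective_succ (q + 1) T.X₂)
      ⟨fun a b _ => (ih _ (cechAcyclicQ_quotient hT hG)).eq_of_src a b⟩

theorem preservesFilteredColimit_push (J : Type (u + 1)) [SmallCategory J] [IsFiltered J] :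
    PreservesColimitsOfShape J (EtCoh.push f) := by
  refine ⟨fun {D} => preservesColimit_of_preserves_colimit_cocone (colimit.isColimit D) ?_⟩
  let c := colimit.cocone D
  let c' := colimit.cocone (D ⋙ EtCoh.push f)
  let φ : c'.pt ⟶ ((EtCoh.push f).mapCocone c).pt := colimit.desc (D ⋙ EtCoh.push f) ((EtCoh.push f).mapCocone c)
  have hφ : ∀ i, c'.ι.app i ≫ φ = (EtCoh.push f).map (c.ι.app i) := fun i =>
    colimit.ι_desc ((EtCoh.push f).mapCocone c) i
  have hsec : ∀ (i : J) (V : Y.Etale) (s : ((D ⋙ EtCoh.push f).obj i).obj.obj (op V)),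
      φ.hom.app (op V) ((c'.ι.app i).hom.app (op V) s) = (c.ι.app i).hom.app (op ((EtCoh.bc f).obj V)) s := fun i V s => by
    refine (ConcreteCategory.comp_apply _ _ _).symm.trans ?_
    exact congrArg (fun w : (D ⋙ EtCoh.push f).obj i ⟶ ((EtCoh.push f).mapCocone c).pt => w.hom.app (op V) s) (hφ i)
  haveI : IsIso φ := isIso_of_stalks (A := AddCommGrpCat.{u + 1}) φ fun Ω _ _ ξ => by
    rw [ConcreteCategory.isIso_iff_bijective]
    refine ⟨(injective_iff_map_eq_zero ((stk (A := AddCommGrpCat.{u + 1}) ξ).map φ).hom).2 fun p hp => ?_, fun p => ?_⟩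
    · obtain ⟨U, u₀, x, rfl⟩ := exists_germ (A := AddCommGrpCat.{u + 1}) ξ p
      rw [germ_natural_apply, ← map_zero (germ (A := AddCommGrpCat.{u + 1}) ξ ((EtCoh.push f).mapCocone c).pt U u₀).hom] at hp
      obtain ⟨V₀, g₀, v₀, hv₀, he⟩ := (germ_eq_iff (A := AddCommGrpCat.{u + 1}) ξ U u₀ _ _).1 hp
      rw [map_zero, ← NatTrans.naturality_apply] at he
      rw [← hv₀, ← germ_res_apply]
      obtain ⟨V, g, v, hV, rfl⟩ := exists_affine_below' ξ V₀ v₀
      haveI := hV
      rw [← germ_res_apply]
      obtain ⟨i, s, hs⟩ := EtCompLib.stage_lift (colimit.isColimit (D ⋙ EtCoh.push f)) V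
        (c'.pt.obj.map g.op (c'.pt.obj.map g₀.op x))
      have h0 : (c.ι.app i).hom.app (op ((EtCoh.bc f).obj V)) s = 0 := by
        rw [← hsec, hs, NatTrans.naturality_apply, he, map_zero]
      obtain ⟨k, a, ha⟩ := @EtCompLib.stage_zero _ _ _ _ _ _ (colimit.isColimit D) ((EtCoh.bc f).obj V)
        (bc_mem_qcqsObj f (V := V)).1 i s h0
      have e := congrArg (fun w : (D ⋙ EtCoh.push f).obj i ⟶ (colimit.cocone (D ⋙ EtCoh.push f)).pt => w.hom.app (op V) s)
        ((colimit.cocone (D ⋙ EtCoh.push f)).w a)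
      refine (congrArg _ (hs.symm.trans (e.symm.trans ?_))).trans (map_zero _)
      refine (ConcreteCategory.comp_apply (((D ⋙ EtCoh.push f).map a).hom.app (op V))
        (((colimit.cocone (D ⋙ EtCoh.push f)).ι.app k).hom.app (op V)) s).trans ?_
      exact (congrArg _ ha).trans (map_zero _)
    · obtain ⟨U, u₀, x, rfl⟩ := exists_germ (A := AddCommGrpCat.{u + 1}) ξ p
      obtain ⟨V, g, v, hV, rfl⟩ := exists_affine_below' ξ U u₀
      haveI := hV
      obtain ⟨i, s, hs⟩ := @EtCompLib.stage_lift _ _ _ _ _ _ (colimit.isColimit D) ((EtCoh.bc f).obj V)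
        (bc_mem_qcqsObj f (V := V)).1 (bc_mem_qcqsObj f (V := V)).2 (((EtCoh.push f).mapCocone c).pt.obj.map g.op x)
      refine ⟨germ (A := AddCommGrpCat.{u + 1}) ξ c'.pt V v ((c'.ι.app i).hom.app (op V) s), ?_⟩
      rw [germ_natural_apply, hsec, ← germ_res_apply]
      exact congrArg _ hs
  exact (colimit.isColimit (D ⋙ EtCoh.push f)).ofIsoColimit (Cocone.ext (asIso φ) hφ)

theorem preservesCoproducts_push (ι : Type (u + 1)) : PreservesColimitsOfShape (Discrete ι) (EtCoh.push f) := by
  classical
  haveI : (EtCoh.push f).Additive := { }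
  haveI := preservesFilteredColimit_push f (Finset (Discrete ι))
  exact FiltSectLib.preservesColimitsOfShape_discrete _ ι

theorem isZero_Rpush_sigma_injective {ι : Type (u + 1)} (D : Discrete ι ⥤ EtCoh.Ab X) (c : Cocone D) (hc : IsColimit c)
    (hD : ∀ j, Injective (D.obj j)) (q : ℕ) (hq : 0 < q) : IsZero ((EtCoh.Rpush f q).obj c.pt) := by
  classical
  obtain ⟨q, rfl⟩ : ∃ p, q = p + 1 := ⟨q - 1, by omega⟩
  let cc := CoproductsFromFiniteFiltered.liftToFinsetColimitCocone D
  refine IsZero.of_iso ?_ ((EtCoh.Rpush f (q + 1)).mapIso (hc.coconePointUniqueUpToIso cc.isColimit))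
  show IsZero ((EtCoh.Rpush f (q + 1)).obj (colimit (CoproductsFromFiniteFiltered.liftToFinsetObj D)))
  refine isZero_Rpush_cechAcyclicQ f q _ (EtCompLib.cechAcyclicQ_colim (J := Finset (Discrete ι))
    (colimit.isColimit (CoproductsFromFiniteFiltered.liftToFinsetObj D)) fun S => ?_)
  haveI : ∀ x : S, Injective (D.obj x.1) := fun x => hD x.1
  haveI : Injective (∐ fun x : S => D.obj x.1) := Injective.of_iso (biproduct.isoCoproduct _) inferInstance
  exact @cechAcyclicQ_injective _ _ (inferInstanceAs (Injective (∐ fun x : S => D.obj x.1)))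

/-- Derived direct images commute with uniformly bounded below direct sums. -/
theorem preservesColimit_rpush [DCoh.HasRpushEt X f] {ι : Type (u + 1)} (K : ι → DCoh.DEt X) (a : ℤ)
    (hK : ∀ i, (K i).IsGE a) : PreservesColimit (Discrete.functor K) (DCoh.RpushEt X f) := by
  haveI : (EtCoh.push f).Additive := { }
  haveI : AB4OfSize.{u + 1} (EtCoh.Ab X) := AB4.of_AB5 _
  haveI : AB4OfSize.{u + 1} (EtCoh.Ab Y) := AB4.of_AB5 _
  haveI := preservesCoproducts_push f ι
  haveI := EtCompLib.hasCoproduct K
  haveI := EtCompLib.hasCoproduct fun i => (DCoh.RpushEt X f).obj (K i)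
  choose P hP e using fun i => haveI := hK i; (K i).exists_iso_Q_obj_of_isGE a
  let α := (DCoh.pushEtKh X f).totalRightDerivedUnit DerivedCategory.Qh
    (HomotopyCategory.quasiIso (EtCoh.Ab X) (ComplexShape.up ℤ))
  have := FiltSectLib.isIso_sigmaDesc_of_homology (DCoh.RpushEt X f) K P (fun i => (e i).some.symm) fun m =>
    IndCohLib.GenColim.nonempty_isColimit_rH_of_isGE (EtCoh.push f) (DCoh.RpushEt X f) α
      (fun D c hc hD i hi => isZero_Rpush_sigma_injective f D c hc hD i hi) (coproductIsCoproduct P) a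
      (fun j => haveI := hP j.as; (inferInstance : (P j.as).IsGE a)) m
  haveI : IsIso (sigmaComparison (DCoh.RpushEt X f) K) := this
  exact PreservesCoproduct.of_iso_comparison _ K

theorem preservesCoproducts_Q (ι : Type (u + 1)) :
    PreservesColimitsOfShape (Discrete ι) (DerivedCategory.Q : CochainComplex (EtCoh.Ab X) ℤ ⥤ _) :=
  haveI : ∀ F : ι → CochainComplex (EtCoh.Ab X) ℤ, PreservesColimit (Discrete.functor F) DerivedCategory.Q := fun F =>
    preservesColimit_of_preserves_colimit_cocone (coproductIsCoproduct F)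
      ((Cofan.isColimitMapCoconeEquiv _ _ (Cofan.mk (∐ F) (Sigma.ι F))).symm (KFlatLib.isColimit_Q_sigma F).some)
  preservesColimitsOfShape_of_discrete _

/-- Extension by zero commutes with direct sums in the derived category. -/
theorem preservesColimit_extZeroD {U : Scheme.{u}} (j : U ⟶ X) [IsOpenImmersion j]
    [PreservesFiniteLimits (EtShriek.extZero j)] {ι : Type (u + 1)} (K : ι → DCoh.DEt U) :
    PreservesColimit (Discrete.functor K) (DEt.extZeroD j) := by
  haveI : (EtShriek.extZero j).IsLeftAdjoint := (EtShriek.extZeroAdj j).isLeftAdjoint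
  haveI : AB4OfSize.{u + 1} (EtCoh.Ab U) := AB4.of_AB5 _
  haveI := EtCompLib.hasCoproduct K
  haveI := preservesCoproducts_Q (X := X) ι
  let P := fun i => DerivedCategory.Q.objPreimage (K i)
  let M := (EtShriek.extZero j).mapHomologicalComplex (ComplexShape.up ℤ)
  let hM : IsColimit (M.mapCocone (Cofan.mk (∐ P) (Sigma.ι P))) :=
    HomologicalComplex.isColimitOfEval _ _ fun n =>
      isColimitOfPreserves (HomologicalComplex.eval _ _ n ⋙ EtShriek.extZero j) (coproductIsCoproduct P)
  let h : IsColimit ((DerivedCategory.Q ⋙ DEt.extZeroD j).mapCocone (Cofan.mk (∐ P) (Sigma.ι P))) :=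
    IsColimit.mapCoconeEquiv (EtShriek.extZero j).mapDerivedCategoryFactors.symm
      (isColimitOfPreserves DerivedCategory.Q hM)
  obtain ⟨hc⟩ := FiltSectLib.nonempty_isColimit_cofan (DEt.extZeroD j) K P
    (fun i => DerivedCategory.Q.objObjPreimageIso (K i)) h
  exact preservesColimit_of_preserves_colimit_cocone (coproductIsCoproduct K)
    ((Cofan.isColimitMapCoconeEquiv _ _ (Cofan.mk (∐ K) (Sigma.ι K))).symm hc)

theorem preservesColimit_comp_Rshriek {P : Scheme.{u}} (j : X ⟶ P) [IsOpenImmersion j] (fb : P ⟶ Y)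
    [QuasiCompact fb] [QuasiSeparated fb] [PreservesFiniteLimits (EtShriek.extZero j)] [DCoh.HasRpushEt P fb]
    {ι : Type (u + 1)} (K : ι → DCoh.DEt X) (a : ℤ) (hb : ∀ i, (K i).IsGE a) :
    PreservesColimit (Discrete.functor K) (DEt.extZeroD j ⋙ DCoh.RpushEt P fb) := by
  haveI := preservesColimit_extZeroD j K
  haveI := preservesColimit_rpush fb (fun i => (DEt.extZeroD j).obj (K i)) a fun i => by
    haveI := hb i
    obtain ⟨C, hC, ⟨e⟩⟩ := (K i).exists_iso_Q_obj_of_isGE a
    haveI := hC
    haveI : (DerivedCategory.Q.obj (((EtShriek.extZero j).mapHomologicalComplex (ComplexShape.up ℤ)).obj C)).IsGE a :=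
      (DerivedCategory.isGE_Q_obj_iff _ a).2 inferInstance
    exact DerivedCategory.TStructure.t.isGE_of_iso ((extZeroQ j C).symm ≪≫ (DEt.extZeroD j).mapIso e.symm) a
  haveI : PreservesColimit (Discrete.functor K ⋙ DEt.extZeroD j) (DCoh.RpushEt P fb) :=
    preservesColimit_of_iso_diagram _ (Discrete.natIso fun i => Iso.refl _ :
      Discrete.functor (fun i => (DEt.extZeroD j).obj (K i)) ≅ Discrete.functor K ⋙ DEt.extZeroD j)
  exact inferInstance

theorem preservesColimit_ulift {C D : Type*} [Category C] [Category D] (F : C ⥤ D) {ι : Type u} (K : ι → C)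
    [PreservesColimit (Discrete.functor fun i : ULift.{u + 1} ι => K i.down) F] :
    PreservesColimit (Discrete.functor K) F := by
  let e : Discrete (ULift.{u + 1} ι) ≌ Discrete ι := Discrete.equivalence Equiv.ulift
  refine ⟨fun {c} hc => ⟨?_⟩⟩
  let iso : Discrete.functor (fun i : ULift.{u + 1} ι => K i.down) ≅ e.functor ⋙ Discrete.functor K :=
    Discrete.natIso fun i => Iso.refl _
  haveI : PreservesColimit (e.functor ⋙ Discrete.functor K) F := preservesColimit_of_iso_diagram F iso
  exact IsColimit.ofWhiskerEquivalence e (isColimitOfPreserves F (hc.whiskerEquivalence e))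

end EtPBCDLib

end
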