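import Groth.Agent.EtPBCDLib.Compact
import Groth.Agent.EtShLib.RestrNat
import Groth.Agent.EtProperH0Lib.Main

/-!
# Base change for direct images with proper support
-/

set_option autoImplicit false
set_option linter.all false
set_option backward.isDefEq.respectTransparency false
set_option backward.isDefEq.respectTransparency.types false
set_option maxHeartbeats 1000000
set_option synthInstance.maxHeartbeats 400000

universe u

open CategoryTheory CategoryTheory.Limits AlgebraicGeometry Opposite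
open Groth.Agent Groth.Agent.EtShLib EtPBCProperLib

attribute [local instance] HasDerivedCategory.standard EtSliceLib.pullExact EtPBCDLib.preservesFiniteLimits_push
  EtPBCDLib.preservesFiniteColimits_extZero EtCore.pull_preservesFiniteColimits

noncomputable section

namespace EtPBCDLib

variable {X Y X' Y' : Scheme.{u}}

/-- Base change in degree zero as a natural transformation. -/
def bc0NT (f : X ⟶ Y) (g : Y' ⟶ Y) (f' : X' ⟶ Y') (g' : X' ⟶ X) (w : g' ≫ f = f' ≫ g) :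
    EtCoh.push f ⋙ EtCoh.pull g ⟶ EtCoh.pull g' ⋙ EtCoh.push f' where
  app F := EtCoh.baseChange0 f g f' g' w F
  naturality F G φ := by
    refine ((EtCoh.pullPushAdj g).homEquiv_naturality_left_symm _ _).symm.trans
      ((congrArg ((EtCoh.pullPushAdj g).homEquiv _ _).symm ?_).trans
        ((EtCoh.pullPushAdj g).homEquiv_naturality_right_symm _ _))
    have h1 := (EtCoh.pullPushAdj g').unit.naturality φ
    have h2 := ((EtCoh.pushComp f g').hom.naturality ((EtCoh.pull g').map φ))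
    have h3 := ((EtCoh.pushCongr w).hom.naturality ((EtCoh.pull g').map φ))
    have h4 := ((EtCoh.pushComp g f').inv.naturality ((EtCoh.pull g').map φ))
    dsimp only [Functor.id_obj, Functor.id_map, Functor.comp_obj, Functor.comp_map] at h1 h2 h3 h4
    simp only [Category.assoc]
    rw [← Functor.map_comp_assoc, h1, Functor.map_comp_assoc, reassoc_of% h2, reassoc_of% h3, h4]
    rfl

section Mate

variable {A B C D : Type*} [Category A] [Category B] [Category C] [Category D]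
  {L₁ : A ⥤ B} {R₁ : B ⥤ A} (adj₁ : L₁ ⊣ R₁) {L₂ : C ⥤ D} {R₂ : D ⥤ C} (adj₂ : L₂ ⊣ R₂)
  {G : A ⥤ C} {H : B ⥤ D}

/-- The mate of a transformation between right adjoints. -/
def mate (ρ : R₁ ⋙ G ⟶ H ⋙ R₂) : G ⋙ L₂ ⟶ L₁ ⋙ H where
  app F := (adj₂.homEquiv _ _).symm (G.map (adj₁.unit.app F) ≫ ρ.app (L₁.obj F))
  naturality F K φ := by
    refine (adj₂.homEquiv_naturality_left_symm _ _).symm.trans
      ((congrArg (adj₂.homEquiv _ _).symm ?_).trans (adj₂.homEquiv_naturality_right_symm _ _))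
    have h1 := adj₁.unit.naturality φ
    have h2 := ρ.naturality (L₁.map φ)
    dsimp only [Functor.id_obj, Functor.id_map, Functor.comp_obj, Functor.comp_map] at h1 h2 ⊢
    rw [← Functor.map_comp_assoc, h1, Functor.map_comp_assoc, h2, Category.assoc]

theorem mate_app (ρ : R₁ ⋙ G ⟶ H ⋙ R₂) (F : A) : (mate adj₁ adj₂ ρ).app F =
    L₂.map (G.map (adj₁.unit.app F) ≫ ρ.app (L₁.obj F)) ≫ adj₂.counit.app (H.obj (L₁.obj F)) := by
  simp only [mate, Adjunction.homEquiv_counit]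
  rfl

omit adj₂ in
theorem isIso_mate_inner (ρ : R₁ ⋙ G ≅ H ⋙ R₂) (F : A) [IsIso (adj₁.unit.app F)] :
    IsIso (G.map (adj₁.unit.app F) ≫ ρ.hom.app (L₁.obj F)) := inferInstance

end Mate

section OpenSquare

variable {U U₁ P P₁ : Scheme.{u}} (j : U ⟶ P) [IsOpenImmersion j] (g₁ : P₁ ⟶ P) (j₁ : U₁ ⟶ P₁) [IsOpenImmersion j₁]
  (g' : U₁ ⟶ U) (hc : IsPullback g' j₁ j g₁)

/-- Inverse images of restrictions. -/
def restrPullIso : EtShriek.restrAlong j ⋙ EtCoh.pull g' ≅ EtCoh.pull g₁ ⋙ EtShriek.restrAlong j₁ :=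
  Functor.isoWhiskerRight (asIso (restrTheta j)).symm _ ≪≫ (EtCore.pullComp g' j).symm ≪≫ EtCore.pullCongr hc.w ≪≫
    EtCore.pullComp j₁ g₁ ≪≫ Functor.isoWhiskerLeft _ (asIso (restrTheta j₁))

include hc in
theorem isIso_mate_restr (ρ : EtShriek.restrAlong j ⋙ EtCoh.pull g' ≅ EtCoh.pull g₁ ⋙ EtShriek.restrAlong j₁)
    (F : EtCoh.Ab U) : IsIso ((mate (EtShriek.extZeroAdj j) (EtShriek.extZeroAdj j₁) ρ.hom).app F) := by
  haveI := Groth.Agent.EtShLib.isIso_unit j F
  rw [mate_app]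
  refine isIso_of_stalks (A := AddCommGrpCat.{u + 1}) _ fun Ω _ _ ξ => ?_
  by_cases h : ξ.base default ∈ Set.range j₁.base
  · haveI := isIso_counit_stalk j₁ ((EtCoh.pull g₁).obj ((EtShriek.extZero j).obj F)) ξ h
    haveI := isIso_mate_inner (EtShriek.extZeroAdj j) ρ F
    rw [Functor.map_comp]
    exact IsIso.comp_isIso' inferInstance (by assumption)
  · refine isIso_of_source_target_iso_zero _ (isZero_stalk_extZero j₁ _ ξ h).isoZero
      (IsZero.of_iso (isZero_stalk_extZero j F (ξ ≫ g₁) fun hj => h ?_)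
        ((stalkPull g₁ ξ AddCommGrpCat.{u + 1}).app _).symm).isoZero
    obtain ⟨u₀, hu⟩ := hj
    obtain ⟨z, -, hz⟩ := Scheme.exists_preimage_of_isPullback hc u₀ (ξ.base default) hu
    exact ⟨z, hz⟩

include hc in
theorem exists_shriekBC_of (ρ : EtShriek.restrAlong j ⋙ EtCoh.pull g' ≅ EtCoh.pull g₁ ⋙ EtShriek.restrAlong j₁) :
    Nonempty (EtCoh.pull g' ⋙ EtShriek.extZero j₁ ≅ EtShriek.extZero j ⋙ EtCoh.pull g₁) := by
  haveI := fun F => isIso_mate_restr j g₁ j₁ g' hc ρ F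
  haveI := NatIso.isIso_of_isIso_app (mate (EtShriek.extZeroAdj j) (EtShriek.extZeroAdj j₁) ρ.hom)
  exact ⟨asIso (mate (EtShriek.extZeroAdj j) (EtShriek.extZeroAdj j₁) ρ.hom)⟩

include hc in
/-- Extension by zero commutes with inverse images. -/
theorem exists_shriekBC : Nonempty (EtCoh.pull g' ⋙ EtShriek.extZero j₁ ≅ EtShriek.extZero j ⋙ EtCoh.pull g₁) :=
  exists_shriekBC_of j g₁ j₁ g' hc (restrPullIso j g₁ j₁ g' hc)

end OpenSquare

theorem Nice.pull {K : DCoh.DEt Y} (h : Nice K) (g : X ⟶ Y) : Nice ((EtBC.pullD g).obj K) :=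
  Nice.mk' (h.bdd.imp fun a ha n hn => by
      obtain ⟨e⟩ := EtBcDLib.nonempty_homology_pullD g K n
      haveI := ha
      exact ((EtCoh.pull g).map_isZero (DerivedCategory.isZero_of_isGE K a n hn)).of_iso e)
    fun n => by
      obtain ⟨e⟩ := EtBcDLib.nonempty_homology_pullD g K n
      exact Groth.Agent.EtShLib.isTorsion_of_iso e.symm (CdCurveLib.isTorsion_pull_map g (h.tors n))

/-- Derived proper base change for bounded below torsion objects. -/
theorem nonempty_properBC (f : X ⟶ Y) [IsProper f] (g : Y' ⟶ Y) (f' : X' ⟶ Y') (g' : X' ⟶ X)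
    (hc : IsPullback g' f' f g) [PreservesFiniteLimits (EtCoh.pull g)] [PreservesFiniteLimits (EtCoh.pull g')]
    [DCoh.HasRpushEt X f] [DCoh.HasRpushEt X' f'] {K : DCoh.DEt X} (h : Nice K) :
    Nonempty ((EtBC.pullD g).obj ((DCoh.RpushEt X f).obj K) ≅ (DCoh.RpushEt X' f').obj ((EtBC.pullD g').obj K)) := by
  obtain ⟨a, T, hT, hTC, ⟨e⟩⟩ := h.exists_rep
  haveI := hT
  haveI : IsProper f' := MorphismProperty.of_isPullback hc inferInstance
  obtain ⟨a₁⟩ := nonempty_rpush_Q f T a fun n i hi => hTC.isZero_Rpush f n i hi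
  obtain ⟨a₂⟩ := nonempty_rpush_Q f' (((EtCoh.pull g').mapHomologicalComplex (ComplexShape.up ℤ)).obj T) a
    fun n i hi => by
      haveI := EtPBCProperLib.isIso_bcQ g f f' g' hc (T.X n) (hTC.isTorsion n) i
      exact ((EtCoh.pull g).map_isZero (hTC.isZero_Rpush f n i hi)).of_iso (asIso (EtBC.bcQ f g f' g' hc.w i (T.X n))).symm
  haveI : ∀ F, IsIso ((bc0NT f g f' g' hc.w).app F) := fun F => EtProperH0Lib.isIso_baseChange0 hc F
  haveI := NatIso.isIso_of_isIso_app (bc0NT f g f' g' hc.w)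
  let η := asIso (bc0NT f g f' g' hc.w)
  exact ⟨(EtBC.pullD g).mapIso ((DCoh.RpushEt X f).mapIso e.symm ≪≫ a₁) ≪≫
    (EtCoh.pull g).mapDerivedCategoryFactors.app _ ≪≫
    DerivedCategory.Q.mapIso ((NatIso.mapHomologicalComplex η (ComplexShape.up ℤ)).app T) ≪≫
    a₂.symm ≪≫ (DCoh.RpushEt X' f').mapIso (((EtCoh.pull g').mapDerivedCategoryFactors.app T).symm ≪≫
      (EtBC.pullD g').mapIso e)⟩

theorem nonempty_pullD_extZeroD {U U₁ P P₁ : Scheme.{u}} (j : U ⟶ P) [IsOpenImmersion j] (g₁ : P₁ ⟶ P)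
    (j₁ : U₁ ⟶ P₁) [IsOpenImmersion j₁] (g' : U₁ ⟶ U) (hc : IsPullback g' j₁ j g₁)
    [PreservesFiniteLimits (EtShriek.extZero j)] [PreservesFiniteLimits (EtShriek.extZero j₁)]
    [PreservesFiniteLimits (EtCoh.pull g₁)] [PreservesFiniteLimits (EtCoh.pull g')] (K : DCoh.DEt U) :
    Nonempty ((EtBC.pullD g₁).obj ((DEt.extZeroD j).obj K) ≅ (DEt.extZeroD j₁).obj ((EtBC.pullD g').obj K)) := by
  obtain ⟨η⟩ := exists_shriekBC j g₁ j₁ g' hc
  let C := DerivedCategory.Q.objPreimage K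
  let e := DerivedCategory.Q.objObjPreimageIso K
  exact ⟨(EtBC.pullD g₁).mapIso ((DEt.extZeroD j).mapIso e.symm ≪≫ extZeroQ j C) ≪≫
    (EtCoh.pull g₁).mapDerivedCategoryFactors.app _ ≪≫
    DerivedCategory.Q.mapIso ((NatIso.mapHomologicalComplex η (ComplexShape.up ℤ)).app C).symm ≪≫
    (extZeroQ j₁ (((EtCoh.pull g').mapHomologicalComplex (ComplexShape.up ℤ)).obj C)).symm ≪≫ (DEt.extZeroD j₁).mapIso
      (((EtCoh.pull g').mapDerivedCategoryFactors.app C).symm ≪≫ (EtBC.pullD g').mapIso e)⟩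

/-- Base change for compactified direct images. -/
theorem nonempty_baseChange {P P' : Scheme.{u}} (f : X ⟶ Y) (g : Y' ⟶ Y) (f' : X' ⟶ Y') (g' : X' ⟶ X)
    (hc : IsPullback g' f' f g) [QuasiCompact f]
    (j : X ⟶ P) [IsOpenImmersion j] (fb : P ⟶ Y) [IsProper fb] (w : j ≫ fb = f)
    (j' : X' ⟶ P') [IsOpenImmersion j'] (fb' : P' ⟶ Y') [IsProper fb'] (w' : j' ≫ fb' = f')
    [PreservesFiniteLimits (EtShriek.extZero j)] [PreservesFiniteLimits (EtShriek.extZero j')]
    [PreservesFiniteLimits (EtCoh.pull g)] [PreservesFiniteLimits (EtCoh.pull g')]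
    [DCoh.HasRpushEt P fb] [DCoh.HasRpushEt P' fb'] {K : DCoh.DEt X} (h : Nice K) :
    Nonempty ((EtBC.pullD g).obj ((DCoh.RpushEt P fb).obj ((DEt.extZeroD j).obj K)) ≅
      (DCoh.RpushEt P' fb').obj ((DEt.extZeroD j').obj ((EtBC.pullD g').obj K))) := by
  let g₁ := pullback.fst fb g
  let fb₁ := pullback.snd fb g
  let j₁ : X' ⟶ pullback fb g := pullback.lift (g' ≫ j) f' (by rw [Category.assoc, w, hc.w])
  have hfb₁ : j₁ ≫ fb₁ = f' := pullback.lift_snd _ _ _
  have hsq : IsPullback g' j₁ j g₁ :=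
    IsPullback.of_bot (by rw [hfb₁, w]; exact hc) (pullback.lift_fst _ _ _).symm (IsPullback.of_hasPullback fb g)
  haveI : IsOpenImmersion j₁ := MorphismProperty.of_isPullback hsq inferInstance
  haveI : QuasiCompact f' := MorphismProperty.of_isPullback hc inferInstance
  haveI := pfl_extZero j₁
  haveI := EtBcBridgeLib.hasRpush fb₁
  obtain ⟨e₁⟩ := nonempty_properBC fb g fb₁ g₁ (IsPullback.of_hasPullback fb g) (h.extZero j)
  obtain ⟨e₂⟩ := nonempty_pullD_extZeroD j g₁ j₁ g' hsq K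
  obtain ⟨e₃⟩ := nonempty_indep f' j₁ fb₁ hfb₁ j' fb' w' (h.pull g')
  exact ⟨e₁ ≪≫ (DCoh.RpushEt _ fb₁).mapIso e₂ ≪≫ e₃⟩

end EtPBCDLib

end
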