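import Groth.Agent.EtPBCDLib.Plus
import Groth.Agent.EtBcBridgeLib.Local
import Groth.Agent.NagataCompLib.Tools

/-!
# Independence of the compactification and compatibility with composition
-/

set_option autoImplicit false
set_option linter.all false
set_option backward.isDefEq.respectTransparency false
set_option backward.isDefEq.respectTransparency.types false
set_option maxHeartbeats 1000000
set_option synthInstance.maxHeartbeats 400000

universe u

open CategoryTheory CategoryTheory.Limits AlgebraicGeometry Opposite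
open Groth.Agent Groth.Agent.EtShLib EtPBCProperLib

attribute [local instance] HasDerivedCategory.standard EtSliceLib.pullExact EtPBCDLib.preservesFiniteLimits_push
  EtPBCDLib.preservesFiniteColimits_extZero

noncomputable section

namespace EtPBCDLib

variable {X Y : Scheme.{u}}

/-- Bounded below with torsion cohomology. -/
structure Nice (K : DCoh.DEt X) : Prop where
  bdd : ∃ a : ℤ, K.IsGE a
  tors : ∀ n, EtCoh.IsTorsion (DCoh.HDEt K n)

theorem Nice.mk' {K : DCoh.DEt X} (hb : ∃ a : ℤ, ∀ n : ℤ, n < a → IsZero (DCoh.HDEt K n))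
    (ht : ∀ n, EtCoh.IsTorsion (DCoh.HDEt K n)) : Nice K :=
  ⟨hb.imp fun a ha => (DerivedCategory.isGE_iff K a).2 ha, ht⟩

theorem Nice.of_iso {K L : DCoh.DEt X} (h : Nice K) (e : K ≅ L) : Nice L :=
  Nice.mk' (h.bdd.imp fun a ha n hn =>
      (haveI := ha; DerivedCategory.isZero_of_isGE K a n hn).of_iso ((DerivedCategory.homologyFunctor _ n).mapIso e.symm))
    fun n => Groth.Agent.EtShLib.isTorsion_of_iso ((DerivedCategory.homologyFunctor _ n).mapIso e) (h.tors n)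

theorem nice_Q (C : CochainComplex (EtCoh.Ab X) ℤ) (a : ℤ) [C.IsStrictlyGE a] (hC : ∀ n, EtCoh.IsTorsion (C.X n)) :
    Nice (DerivedCategory.Q.obj C) :=
  Nice.mk' ⟨a, fun n hn => ((C.exactAt_of_isGE a n hn).isZero_homology).of_iso
    ((DerivedCategory.homologyFunctorFactors (EtCoh.Ab X) n).app C)⟩ (isTorsion_HDEt_Q C hC)

theorem Nice.exists_rep {K : DCoh.DEt X} (h : Nice K) :
    ∃ (a : ℤ) (T : CochainComplex (EtCoh.Ab X) ℤ), T.IsStrictlyGE a ∧ IsTorCx T ∧ Nonempty (DerivedCategory.Q.obj T ≅ K) := by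
  obtain ⟨a, ha⟩ := h.bdd
  haveI := ha
  exact ⟨a, exists_torRep K a h.tors⟩

theorem Nice.extZero {U : Scheme.{u}} (j : U ⟶ X) [IsOpenImmersion j] [PreservesFiniteLimits (EtShriek.extZero j)]
    {K : DCoh.DEt U} (h : Nice K) : Nice ((DEt.extZeroD j).obj K) := by
  obtain ⟨a, T, hT, hTC, ⟨e⟩⟩ := h.exists_rep
  haveI := hT
  exact (nice_Q _ a fun n => isTorsion_extZero j (hTC.isTorsion n)).of_iso
    ((extZeroQ j T).symm ≪≫ (DEt.extZeroD j).mapIso e)

theorem pfl_extZero {U : Scheme.{u}} (j : U ⟶ X) [IsOpenImmersion j] : PreservesFiniteLimits (EtShriek.extZero j) :=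
  Groth.Agent.EtShLib.preservesFiniteLimits_extZero j

/-- Extension by zero commutes with derived proper direct images. -/
theorem Nice.nonempty_square {P' P Y' : Scheme.{u}} (k : P' ⟶ P) [IsOpenImmersion k] (q : P ⟶ Y) [IsProper q]
    (f₀ : P' ⟶ Y') [IsProper f₀] (jY : Y' ⟶ Y) [IsOpenImmersion jY] (w : k ≫ q = f₀ ≫ jY)
    [PreservesFiniteLimits (EtShriek.extZero k)] [PreservesFiniteLimits (EtShriek.extZero jY)]
    [DCoh.HasRpushEt P' f₀] [DCoh.HasRpushEt P q] {N : DCoh.DEt P'} (h : Nice N) :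
    Nonempty ((DEt.extZeroD jY).obj ((DCoh.RpushEt P' f₀).obj N) ≅
      (DCoh.RpushEt P q).obj ((DEt.extZeroD k).obj N)) := by
  obtain ⟨a, ha⟩ := h.bdd
  exact EtPBCDLib.nonempty_square k q f₀ jY w N a h.tors

/-- A compactification dominating another computes the same direct image with proper support. -/
theorem nonempty_dominate {P P'' : Scheme.{u}} (j : X ⟶ P) [IsOpenImmersion j] (fb : P ⟶ Y) [IsProper fb]
    (j'' : X ⟶ P'') [IsOpenImmersion j''] (fb'' : P'' ⟶ Y) (π : P'' ⟶ P) [IsProper π]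
    (w₁ : j'' ≫ π = j) (w₂ : π ≫ fb = fb'')
    [PreservesFiniteLimits (EtShriek.extZero j)] [PreservesFiniteLimits (EtShriek.extZero j'')]
    [DCoh.HasRpushEt P fb] [DCoh.HasRpushEt P'' fb''] {K : DCoh.DEt X} (h : Nice K) :
    Nonempty ((DCoh.RpushEt P fb).obj ((DEt.extZeroD j).obj K) ≅
      (DCoh.RpushEt P'' fb'').obj ((DEt.extZeroD j'').obj K)) := by
  haveI := EtBcBridgeLib.hasRpush π
  haveI := EtBcBridgeLib.hasRpush (𝟙 X)
  obtain ⟨a, ha⟩ := h.bdd
  obtain ⟨i⟩ := nonempty_rpush_id K a h.tors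
  obtain ⟨s⟩ := h.nonempty_square j'' π (𝟙 X) j (by rw [Category.id_comp, w₁])
  obtain ⟨c⟩ := nonempty_rpush_comp π fb fb'' w₂
  exact ⟨(DCoh.RpushEt P fb).mapIso ((DEt.extZeroD j).mapIso i.symm ≪≫ s) ≪≫ (c.app _).symm⟩

/-- Independence of the compactification. -/
theorem nonempty_indep {P P' : Scheme.{u}} (f : X ⟶ Y) [QuasiCompact f]
    (j : X ⟶ P) [IsOpenImmersion j] (fb : P ⟶ Y) [IsProper fb] (w : j ≫ fb = f)
    (j' : X ⟶ P') [IsOpenImmersion j'] (fb' : P' ⟶ Y) [IsProper fb'] (w' : j' ≫ fb' = f)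
    [PreservesFiniteLimits (EtShriek.extZero j)] [PreservesFiniteLimits (EtShriek.extZero j')]
    [DCoh.HasRpushEt P fb] [DCoh.HasRpushEt P' fb'] {K : DCoh.DEt X} (h : Nice K) :
    Nonempty ((DCoh.RpushEt P fb).obj ((DEt.extZeroD j).obj K) ≅
      (DCoh.RpushEt P' fb').obj ((DEt.extZeroD j').obj K)) := by
  let γ : X ⟶ pullback fb fb' := pullback.lift j j' (w.trans w'.symm)
  haveI : QuasiCompact (γ ≫ pullback.fst fb fb' ≫ fb) := by rw [pullback.lift_fst_assoc, w]; infer_instance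
  haveI : QuasiCompact γ := QuasiCompact.of_comp γ (pullback.fst fb fb' ≫ fb)
  haveI : IsOpenImmersion γ.toImage :=
    NagataCompLib.isOpenImmersion_toImage γ (pullback.fst fb fb') j (pullback.lift_fst _ _ _)
  let fb'' := γ.imageι ≫ pullback.fst fb fb' ≫ fb
  haveI := EtBcBridgeLib.hasRpush fb''
  haveI := pfl_extZero γ.toImage
  obtain ⟨e₁⟩ := nonempty_dominate j fb γ.toImage fb'' (γ.imageι ≫ pullback.fst fb fb')
    (by rw [Scheme.Hom.toImage_imageι_assoc]; exact pullback.lift_fst _ _ _) (Category.assoc _ _ _) h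
  obtain ⟨e₂⟩ := nonempty_dominate j' fb' γ.toImage fb'' (γ.imageι ≫ pullback.snd fb fb')
    (by rw [Scheme.Hom.toImage_imageι_assoc]; exact pullback.lift_snd _ _ _)
    (by rw [Category.assoc, ← pullback.condition]) h
  exact ⟨e₁ ≪≫ e₂.symm⟩

theorem exists_natIso_extZero_comp {U V : Scheme.{u}} (j : U ⟶ V) [IsOpenImmersion j] (k : V ⟶ X) [IsOpenImmersion k] :
    Nonempty (EtShriek.extZero (j ≫ k) ≅ EtShriek.extZero j ⋙ EtShriek.extZero k) := by
  obtain ⟨e⟩ := Groth.Agent.S0685.result j k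
  exact ⟨extZeroPreIso (j ≫ k) ≪≫ (lowerShriekIso (j ≫ k)).symm ≪≫ e ≪≫
    Functor.isoWhiskerRight (extZeroPreIso j ≪≫ (lowerShriekIso j).symm).symm _ ≪≫
    Functor.isoWhiskerLeft _ (extZeroPreIso k ≪≫ (lowerShriekIso k).symm).symm⟩

theorem nonempty_extZeroD_comp {U V : Scheme.{u}} (j : U ⟶ V) [IsOpenImmersion j] (k : V ⟶ X) [IsOpenImmersion k]
    (l : U ⟶ X) [IsOpenImmersion l] (w : j ≫ k = l)
    [PreservesFiniteLimits (EtShriek.extZero j)] [PreservesFiniteLimits (EtShriek.extZero k)]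
    [PreservesFiniteLimits (EtShriek.extZero l)] (K : DCoh.DEt U) :
    Nonempty ((DEt.extZeroD k).obj ((DEt.extZeroD j).obj K) ≅ (DEt.extZeroD l).obj K) := by
  subst w
  obtain ⟨η⟩ := exists_natIso_extZero_comp j k
  let C := DerivedCategory.Q.objPreimage K
  let e := DerivedCategory.Q.objObjPreimageIso K
  exact ⟨(DEt.extZeroD k).mapIso ((DEt.extZeroD j).mapIso e.symm ≪≫ extZeroQ j C) ≪≫ extZeroQ k _ ≪≫
    DerivedCategory.Q.mapIso ((NatIso.mapHomologicalComplex η (ComplexShape.up ℤ)).app C).symm ≪≫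
    (extZeroQ (j ≫ k) C).symm ≪≫ (DEt.extZeroD (j ≫ k)).mapIso e⟩

/-- Composition of direct images with proper support. -/
theorem nonempty_comp {Z Pc Pd Pe : Scheme.{u}} (f : X ⟶ Y) (g : Y ⟶ Z) [QuasiCompact f] [QuasiCompact g] [IsSeparated g]
    (jc : X ⟶ Pc) [IsOpenImmersion jc] (fc : Pc ⟶ Y) [IsProper fc] (wc : jc ≫ fc = f)
    (jd : Y ⟶ Pd) [IsOpenImmersion jd] (fd : Pd ⟶ Z) [IsProper fd] (wd : jd ≫ fd = g)
    (je : X ⟶ Pe) [IsOpenImmersion je] (fe : Pe ⟶ Z) [IsProper fe] (we : je ≫ fe = f ≫ g)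
    [PreservesFiniteLimits (EtShriek.extZero jc)] [PreservesFiniteLimits (EtShriek.extZero jd)]
    [PreservesFiniteLimits (EtShriek.extZero je)]
    [DCoh.HasRpushEt Pc fc] [DCoh.HasRpushEt Pd fd] [DCoh.HasRpushEt Pe fe] {K : DCoh.DEt X} (h : Nice K) :
    Nonempty ((DCoh.RpushEt Pd fd).obj ((DEt.extZeroD jd).obj ((DCoh.RpushEt Pc fc).obj ((DEt.extZeroD jc).obj K))) ≅
      (DCoh.RpushEt Pe fe).obj ((DEt.extZeroD je).obj K)) := by
  let γ : X ⟶ pullback fe fd := pullback.lift je (f ≫ jd) (by rw [we, Category.assoc, wd])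
  haveI : QuasiCompact (γ ≫ pullback.fst fe fd ≫ fe) := by rw [pullback.lift_fst_assoc, we]; infer_instance
  haveI : QuasiCompact γ := QuasiCompact.of_comp γ (pullback.fst fe fd ≫ fe)
  haveI : IsOpenImmersion γ.toImage :=
    NagataCompLib.isOpenImmersion_toImage γ (pullback.fst fe fd) je (pullback.lift_fst _ _ _)
  let q := γ.imageι ≫ pullback.snd fe fd
  let k := pullback.fst q jd
  let f₀ := pullback.snd q jd
  haveI : IsProper f₀ := inferInstance
  let j₀ : X ⟶ pullback q jd := pullback.lift γ.toImage f (by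
    rw [Scheme.Hom.toImage_imageι_assoc]; exact pullback.lift_snd _ _ _)
  have hj₀ : j₀ ≫ k = γ.toImage := pullback.lift_fst _ _ _
  haveI : IsOpenImmersion (j₀ ≫ k) := by rw [hj₀]; infer_instance
  haveI : IsOpenImmersion j₀ := IsOpenImmersion.of_comp j₀ k
  haveI := pfl_extZero j₀
  haveI := pfl_extZero k
  haveI := pfl_extZero γ.toImage
  haveI := EtBcBridgeLib.hasRpush f₀
  haveI := EtBcBridgeLib.hasRpush q
  haveI := EtBcBridgeLib.hasRpush (q ≫ fd)
  obtain ⟨e₁⟩ := nonempty_indep f jc fc wc j₀ f₀ (pullback.lift_snd _ _ _) h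
  obtain ⟨e₂⟩ := (h.extZero j₀).nonempty_square k q f₀ jd pullback.condition
  obtain ⟨e₃⟩ := nonempty_extZeroD_comp j₀ k γ.toImage hj₀ K
  obtain ⟨e₄⟩ := nonempty_rpush_comp q fd (q ≫ fd) rfl
  obtain ⟨e₅⟩ := nonempty_indep (f ≫ g) γ.toImage (q ≫ fd) (by
    show γ.toImage ≫ (γ.imageι ≫ pullback.snd fe fd) ≫ fd = _
    rw [Category.assoc, Scheme.Hom.toImage_imageι_assoc, pullback.lift_snd_assoc, Category.assoc, wd]) je fe we h
  exact ⟨(DCoh.RpushEt Pd fd).mapIso ((DEt.extZeroD jd).mapIso e₁ ≪≫ e₂ ≪≫ (DCoh.RpushEt _ q).mapIso e₃) ≪≫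
    (e₄.app _).symm ≪≫ e₅⟩

end EtPBCDLib

end
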