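import Groth.Agent.EtPBCDLib.TorCx
import Groth.Agent.EtPBCCdLib.OpenSquare
import Groth.Agent.EtBcDLib.Basic
import Groth.Agent.IndCohLib.GenColim
import Groth.Agent.S4329
import Groth.Agent.S0685
import Groth.Agent.DescSecLib.Et

/-!
# Compactified direct images of bounded below complexes with torsion cohomology
-/

set_option autoImplicit false
set_option linter.all false
set_option backward.isDefEq.respectTransparency false
set_option backward.isDefEq.respectTransparency.types false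
set_option maxHeartbeats 1000000
set_option synthInstance.maxHeartbeats 400000

universe u

open CategoryTheory CategoryTheory.Limits AlgebraicGeometry Opposite
open Groth.Agent Groth.Agent.EtShLib EtPBCProperLib

attribute [local instance] HasDerivedCategory.standard EtSliceLib.pullExact

noncomputable section

namespace EtPBCDLib

variable {X Y : Scheme.{u}}

/-- The terms are torsion parts of injective sheaves. -/
def IsTorCx (T : CochainComplex (EtCoh.Ab X) ℤ) : Prop :=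
  ∀ n, ∃ J : EtCoh.Ab X, Injective J ∧ T.X n = tor J

theorem IsTorCx.isTorsion {T : CochainComplex (EtCoh.Ab X) ℤ} (h : IsTorCx T) (n : ℤ) : EtCoh.IsTorsion (T.X n) := by
  obtain ⟨J, -, hJ⟩ := h n
  rw [hJ]
  exact isTorsion_tor J

theorem IsTorCx.isZero_Rpush {T : CochainComplex (EtCoh.Ab X) ℤ} (h : IsTorCx T) (f : X ⟶ Y) [QuasiCompact f]
    [QuasiSeparated f] (n : ℤ) (i : ℕ) (hi : 0 < i) : IsZero ((EtCoh.Rpush f i).obj (T.X n)) := by
  obtain ⟨J, hJi, hJ⟩ := h n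
  haveI := hJi
  rw [hJ]
  exact isZero_Rpush_tor_qcqs f J i hi

theorem isTorsion_HDEt_Q (C : CochainComplex (EtCoh.Ab X) ℤ) (hC : ∀ n, EtCoh.IsTorsion (C.X n)) (n : ℤ) :
    EtCoh.IsTorsion (DCoh.HDEt (DerivedCategory.Q.obj C) n) :=
  Groth.Agent.EtShLib.isTorsion_of_iso ((DerivedCategory.homologyFunctorFactors (EtCoh.Ab X) n).app C).symm
    (isTorsion_homology C n (hC n))

/-- Bounded below objects with torsion cohomology have torsion acyclic representatives. -/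
theorem exists_torRep (K : DCoh.DEt X) (a : ℤ) [K.IsGE a] (ht : ∀ n, EtCoh.IsTorsion (DCoh.HDEt K n)) :
    ∃ (T : CochainComplex (EtCoh.Ab X) ℤ), T.IsStrictlyGE a ∧ IsTorCx T ∧ Nonempty (DerivedCategory.Q.obj T ≅ K) := by
  obtain ⟨K₀, hK₀, ⟨e⟩⟩ := K.exists_iso_Q_obj_of_isGE a
  haveI := hK₀
  obtain ⟨I, α, hI, hinj, -, hα⟩ := Groth.Agent.DerLib.Horseshoe.exists_injective_resolution K₀ a
  haveI := hI
  haveI := hα
  let eI : DerivedCategory.Q.obj I ≅ K :=
    haveI : IsIso (DerivedCategory.Q.map α) := (DerivedCategory.isIso_Q_map_iff_quasiIso (EtCoh.Ab X) α).2 hα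
    (asIso (DerivedCategory.Q.map α)).symm ≪≫ e.symm
  haveI := quasiIso_torCxι I hinj fun n => Groth.Agent.EtShLib.isTorsion_of_iso
    (((DerivedCategory.homologyFunctor (EtCoh.Ab X) n).mapIso eI).symm ≪≫
      (DerivedCategory.homologyFunctorFactors (EtCoh.Ab X) n).app I) (ht n)
  haveI : IsIso (DerivedCategory.Q.map (torCxι I)) :=
    (DerivedCategory.isIso_Q_map_iff_quasiIso (EtCoh.Ab X) _).2 inferInstance
  exact ⟨torCx I, isStrictlyGE_torCx I a, fun n => ⟨I.X n, hinj n, rfl⟩, ⟨asIso (DerivedCategory.Q.map (torCxι I)) ≪≫ eI⟩⟩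

theorem preservesFiniteLimits_push (f : X ⟶ Y) : PreservesFiniteLimits (EtCoh.push f) :=
  haveI : PreservesLimitsOfSize.{0, 0} (EtCoh.push f) := (EtCoh.pullPushAdj f).rightAdjoint_preservesLimits
  PreservesLimitsOfSize.preservesFiniteLimits _

attribute [local instance] preservesFiniteLimits_push

theorem preservesFiniteColimits_extZero {U : Scheme.{u}} (j : U ⟶ X) [IsOpenImmersion j] :
    PreservesFiniteColimits (EtShriek.extZero j) :=
  haveI : (EtShriek.extZero j).IsLeftAdjoint := (EtShriek.extZeroAdj j).isLeftAdjoint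
  inferInstance

attribute [local instance] preservesFiniteColimits_extZero

/-- A bounded below complex of acyclic sheaves computes the derived direct image. -/
theorem nonempty_rpush_Q (f : X ⟶ Y) [DCoh.HasRpushEt X f] (C : CochainComplex (EtCoh.Ab X) ℤ) (a : ℤ)
    [C.IsStrictlyGE a] (hac : ∀ (n : ℤ) (i : ℕ), 0 < i → IsZero ((EtCoh.Rpush f i).obj (C.X n))) :
    Nonempty ((DCoh.RpushEt X f).obj (DerivedCategory.Q.obj C) ≅
      DerivedCategory.Q.obj (((EtCoh.push f).mapHomologicalComplex (ComplexShape.up ℤ)).obj C)) := by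
  let α := (DCoh.pushEtKh X f).totalRightDerivedUnit DerivedCategory.Qh
    (HomotopyCategory.quasiIso (EtCoh.Ab X) (ComplexShape.up ℤ))
  haveI := IndCohLib.GenColim.isIso_unit_of_acyclic (EtCoh.push f) (DCoh.RpushEt X f) α C a hac
  haveI := IndCohLib.GenColim.isIso_nu (EtCoh.push f) (DCoh.RpushEt X f) α C
  exact ⟨(asIso ((IndCohLib.GenColim.nu (EtCoh.push f) (DCoh.RpushEt X f) α).app C)).symm⟩

/-- Extension by zero of a complex. -/
def extZeroQ {U : Scheme.{u}} (j : U ⟶ X) [IsOpenImmersion j] [PreservesFiniteLimits (EtShriek.extZero j)]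
    (C : CochainComplex (EtCoh.Ab U) ℤ) :
    (DEt.extZeroD j).obj (DerivedCategory.Q.obj C) ≅
      DerivedCategory.Q.obj (((EtShriek.extZero j).mapHomologicalComplex (ComplexShape.up ℤ)).obj C) :=
  (EtShriek.extZero j).mapDerivedCategoryFactors.app C

theorem isTorsion_extZero {U : Scheme.{u}} (j : U ⟶ X) [IsOpenImmersion j] {F : EtCoh.Ab U} (hF : EtCoh.IsTorsion F) :
    EtCoh.IsTorsion ((EtShriek.extZero j).obj F) :=
  Groth.Agent.EtShLib.isTorsion_of_iso ((extZeroPreIso j ≪≫ (lowerShriekIso j).symm).app F).symm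
    (isTorsion_lowerShriek j F hF)

theorem exists_natIso_square {P' P Y' : Scheme.{u}} (k : P' ⟶ P) [IsOpenImmersion k] (q : P ⟶ Y) [IsProper q]
    (f₀ : P' ⟶ Y') [IsProper f₀] (jY : Y' ⟶ Y) [IsOpenImmersion jY] (w : k ≫ q = f₀ ≫ jY) :
    Nonempty (EtShriek.extZero k ⋙ EtCoh.push q ≅ EtCoh.push f₀ ⋙ EtShriek.extZero jY) := by
  haveI := isIso_preι_of_proper q
  haveI := isIso_preι_of_proper f₀
  let pq : EtShriek.lowerShriek q ≅ EtCoh.push q := lowerShriekIso q ≪≫ asIso (preι q)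
  let pf : EtShriek.lowerShriek f₀ ≅ EtCoh.push f₀ := lowerShriekIso f₀ ≪≫ asIso (preι f₀)
  obtain ⟨e₁⟩ := Groth.Agent.S0685.result k q
  obtain ⟨e₂⟩ := Groth.Agent.S0685.result f₀ jY
  rw [w] at e₁
  exact ⟨Functor.isoWhiskerRight (extZeroPreIso k ≪≫ (lowerShriekIso k).symm) _ ≪≫
    Functor.isoWhiskerLeft _ pq.symm ≪≫ e₁.symm ≪≫ e₂ ≪≫ Functor.isoWhiskerRight pf _ ≪≫
    Functor.isoWhiskerLeft _ (extZeroPreIso jY ≪≫ (lowerShriekIso jY).symm).symm⟩

/-- Extension by zero commutes with derived proper direct images. -/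
theorem nonempty_square {P' P Y' : Scheme.{u}} (k : P' ⟶ P) [IsOpenImmersion k] (q : P ⟶ Y) [IsProper q]
    (f₀ : P' ⟶ Y') [IsProper f₀] (jY : Y' ⟶ Y) [IsOpenImmersion jY] (w : k ≫ q = f₀ ≫ jY)
    [PreservesFiniteLimits (EtShriek.extZero k)] [PreservesFiniteLimits (EtShriek.extZero jY)]
    [DCoh.HasRpushEt P' f₀] [DCoh.HasRpushEt P q] (N : DCoh.DEt P') (a : ℤ) [N.IsGE a]
    (ht : ∀ n, EtCoh.IsTorsion (DCoh.HDEt N n)) :
    Nonempty ((DEt.extZeroD jY).obj ((DCoh.RpushEt P' f₀).obj N) ≅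
      (DCoh.RpushEt P q).obj ((DEt.extZeroD k).obj N)) := by
  obtain ⟨T, hT, hTC, ⟨e⟩⟩ := exists_torRep N a ht
  haveI := hT
  obtain ⟨η⟩ := exists_natIso_square k q f₀ jY w
  obtain ⟨a₁⟩ := nonempty_rpush_Q f₀ T a fun n i hi => hTC.isZero_Rpush f₀ n i hi
  obtain ⟨a₂⟩ := nonempty_rpush_Q q (((EtShriek.extZero k).mapHomologicalComplex (ComplexShape.up ℤ)).obj T) a
    fun n i hi => by
      obtain ⟨b⟩ := EtPBCCdLib.nonempty_extZero_Rpush_iso k jY f₀ q w (T.X n) (hTC.isTorsion n) i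
      exact ((EtShriek.extZero jY).map_isZero (hTC.isZero_Rpush f₀ n i hi)).of_iso b.symm
  exact ⟨(DEt.extZeroD jY).mapIso ((DCoh.RpushEt P' f₀).mapIso e.symm ≪≫ a₁) ≪≫ extZeroQ jY _ ≪≫
    DerivedCategory.Q.mapIso ((NatIso.mapHomologicalComplex η (ComplexShape.up ℤ)).app T).symm ≪≫
    a₂.symm ≪≫ (DCoh.RpushEt P q).mapIso ((extZeroQ k T).symm ≪≫ (DEt.extZeroD k).mapIso e)⟩

/-- Derived direct images compose. -/
theorem nonempty_rpush_comp {Z : Scheme.{u}} (f : X ⟶ Y) (g : Y ⟶ Z) (h : X ⟶ Z) (w : f ≫ g = h)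
    [DCoh.HasRpushEt X f] [DCoh.HasRpushEt Y g] [DCoh.HasRpushEt X h] :
    Nonempty (DCoh.RpushEt X h ≅ DCoh.RpushEt X f ⋙ DCoh.RpushEt Y g) := by
  subst w
  haveI := Groth.Agent.S4329.result f g
  exact ⟨asIso (EtSix.compMap f g)⟩

theorem nonempty_rpush_id [DCoh.HasRpushEt X (𝟙 X)] (K : DCoh.DEt X) (a : ℤ) [K.IsGE a]
    (ht : ∀ n, EtCoh.IsTorsion (DCoh.HDEt K n)) : Nonempty ((DCoh.RpushEt X (𝟙 X)).obj K ≅ K) := by
  obtain ⟨T, hT, hTC, ⟨e⟩⟩ := exists_torRep K a ht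
  haveI := hT
  obtain ⟨a₁⟩ := nonempty_rpush_Q (𝟙 X) T a fun n i hi => hTC.isZero_Rpush (𝟙 X) n i hi
  haveI : (EtCoh.push (𝟙 X)).Additive := { }
  exact ⟨(DCoh.RpushEt X (𝟙 X)).mapIso e.symm ≪≫ a₁ ≪≫
    DerivedCategory.Q.mapIso ((NatIso.mapHomologicalComplex (DescSecLib.etPid X).symm (ComplexShape.up ℤ)).app T ≪≫
      (Functor.mapHomologicalComplexIdIso (EtCoh.Ab X) (ComplexShape.up ℤ)).app T) ≪≫ e⟩

end EtPBCDLib

end
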