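import Groth.Agent.EtPBCProperLib.Torsion
import Mathlib.Algebra.Homology.HomologicalComplexAbelian
import Mathlib.Algebra.Homology.HomologySequence

/-!
# Torsion parts of complexes of injective sheaves with torsion cohomology
-/

set_option autoImplicit false
set_option linter.all false
set_option backward.isDefEq.respectTransparency false
set_option backward.isDefEq.respectTransparency.types false
set_option maxHeartbeats 1000000
set_option synthInstance.maxHeartbeats 400000

universe u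

open CategoryTheory CategoryTheory.Limits AlgebraicGeometry Opposite
open Groth.Agent Groth.Agent.EtShLib EtPBCProperLib

attribute [local instance] EtSliceLib.pullExact CategoryTheory.Abelian.hasFiniteBiproducts

noncomputable section

namespace EtPBCDLib

variable {X : Scheme.{u}}

/-- A morphism vanishing on all stalks is zero. -/
theorem eq_zero_of_stalks {F G : EtCoh.Ab X} (φ : F ⟶ G)
    (h : ∀ (Ω : Type u) [Field Ω] [IsSepClosed Ω] (ξ : Spec (CommRingCat.of Ω) ⟶ X)
      (p : (stk (A := AddCommGrpCat.{u + 1}) ξ).obj F), (stk (A := AddCommGrpCat.{u + 1}) ξ).map φ p = 0) : φ = 0 := by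
  apply Sheaf.hom_ext
  ext U x
  refine eq_of_germ G _ _ fun Ω _ _ ξ u => ?_
  refine (germ_natural_apply ξ φ U.unop u x).symm.trans (Eq.trans ?_ (germ_natural_apply ξ (0 : F ⟶ G) U.unop u x))
  rw [h, show (stk (A := AddCommGrpCat.{u + 1}) ξ).map (0 : F ⟶ G) = 0 from Functor.map_zero _ _ _]
  rfl

/-- A torsion element of a stalk comes from the torsion part. -/
theorem exists_stk_torι (J : EtCoh.Ab X) {Ω : Type u} [Field Ω] [IsSepClosed Ω] (ξ : Spec (CommRingCat.of Ω) ⟶ X)
    (p : (stk (A := AddCommGrpCat.{u + 1}) ξ).obj J) (m : ℕ) (hm : 0 < m) (hp : m • p = 0) :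
    ∃ z, (stk (A := AddCommGrpCat.{u + 1}) ξ).map (torι J) z = p := by
  let S := stk (A := AddCommGrpCat.{u + 1}) ξ
  let T := ShortComplex.mk (kernel.ι (m.factorial • 𝟙 J)) (m.factorial • 𝟙 J) (kernel.condition _)
  have hex := (ShortComplex.exact_of_f_is_kernel T (kernelIsKernel _)).map S
  obtain ⟨z, hz⟩ : ∃ z, S.map (kernel.ι (m.factorial • 𝟙 J)) z = p := by
    refine (ShortComplex.ab_exact_iff _).1 hex p ?_
    show S.map (m.factorial • 𝟙 J) p = 0
    rw [nsmul_map_stk, CategoryTheory.Functor.map_id]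
    show m.factorial • p = 0
    obtain ⟨d, hd⟩ := Nat.dvd_factorial hm le_rfl
    rw [hd, mul_comm, mul_smul, hp, nsmul_zero]
  have h2 : colimit.ι (torDiag J) ((AsSmall.up (C := ℕ)).obj m) ≫ torι J = kernel.ι (m.factorial • 𝟙 J) :=
    colimit.ι_desc _ _
  exact ⟨S.map (colimit.ι (torDiag J) ((AsSmall.up (C := ℕ)).obj m)) z,
    (congrArg (fun t => t z) ((S.map_comp _ _).symm.trans (congrArg S.map h2))).trans hz⟩

/-- A morphism from a torsion sheaf factors through the torsion part. -/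
theorem exists_lift_torι {F : EtCoh.Ab X} (hF : EtCoh.IsTorsion F) (J : EtCoh.Ab X) (f : F ⟶ J) :
    ∃ g : F ⟶ tor J, g ≫ torι J = f := by
  refine ⟨Abelian.monoLift (torι J) f (eq_zero_of_stalks _ fun Ω _ _ ξ p => ?_), Abelian.monoLift_comp _ _ _⟩
  obtain ⟨m, hm, hp⟩ := torsionBy_of_isTorsion hF Ω ξ p
  obtain ⟨z, hz⟩ := exists_stk_torι J ξ ((stk (A := AddCommGrpCat.{u + 1}) ξ).map f p) m hm
    (by rw [← map_nsmul, hp, map_zero])
  rw [Functor.map_comp, ConcreteCategory.comp_apply, ← hz, ← ConcreteCategory.comp_apply, ← Functor.map_comp,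
    cokernel.condition, Functor.map_zero]
  rfl

theorem isTorsion_of_mono {A B : EtCoh.Ab X} (f : A ⟶ B) [Mono f] (hB : EtCoh.IsTorsion B) : EtCoh.IsTorsion A := by
  refine isTorsion_of_torsionBy fun Ω _ _ ξ p => ?_
  obtain ⟨m, hm, hp⟩ := torsionBy_of_isTorsion hB Ω ξ ((stk (A := AddCommGrpCat.{u + 1}) ξ).map f p)
  refine ⟨m, hm, (AddCommGrpCat.mono_iff_injective ((stk (A := AddCommGrpCat.{u + 1}) ξ).map f)).1 inferInstance ?_⟩
  rw [map_nsmul, hp, map_zero]

theorem isTorsion_of_epi {A B : EtCoh.Ab X} (f : A ⟶ B) [Epi f] (hA : EtCoh.IsTorsion A) : EtCoh.IsTorsion B := by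
  refine isTorsion_of_torsionBy fun Ω _ _ ξ p => ?_
  obtain ⟨a, rfl⟩ := (AddCommGrpCat.epi_iff_surjective ((stk (A := AddCommGrpCat.{u + 1}) ξ).map f)).1 inferInstance p
  obtain ⟨m, hm, hp⟩ := torsionBy_of_isTorsion hA Ω ξ a
  exact ⟨m, hm, by rw [← map_nsmul, hp, map_zero]⟩

theorem isTorsion_X₂ {S : ShortComplex (EtCoh.Ab X)} (hS : S.Exact) (h₁ : EtCoh.IsTorsion S.X₁)
    (h₃ : EtCoh.IsTorsion S.X₃) : EtCoh.IsTorsion S.X₂ := by
  refine isTorsion_of_torsionBy fun Ω _ _ ξ p => ?_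
  let F := stk (A := AddCommGrpCat.{u + 1}) ξ
  obtain ⟨m, hm, hp⟩ := torsionBy_of_isTorsion h₃ Ω ξ (F.map S.g p)
  obtain ⟨a, ha⟩ := (ShortComplex.ab_exact_iff _).1 (hS.map F) (m • p) (by
    show F.map S.g (m • p) = 0
    rw [map_nsmul]
    exact hp)
  obtain ⟨k, hk, hka⟩ := torsionBy_of_isTorsion h₁ Ω ξ a
  refine ⟨k * m, Nat.mul_pos hk hm, ?_⟩
  rw [mul_smul, ← ha]
  exact (map_nsmul _ _ _).symm.trans ((congrArg _ hka).trans (map_zero _))

theorem isTorsion_homology (C : CochainComplex (EtCoh.Ab X) ℤ) (i : ℤ) (h : EtCoh.IsTorsion (C.X i)) :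
    EtCoh.IsTorsion (C.homology i) :=
  isTorsion_of_epi (C.homologyπ i) (isTorsion_of_mono (C.iCycles i) h)

theorem isZero_of_isTorsion {F : EtCoh.Ab X} (hF : EtCoh.IsTorsion F) (h : ∀ m : ℕ, 0 < m → Mono (m • 𝟙 F)) :
    IsZero F := by
  rw [IsZero.iff_id_eq_zero]
  refine eq_zero_of_stalks _ fun Ω _ _ ξ p => ?_
  obtain ⟨m, hm, hp⟩ := torsionBy_of_isTorsion hF Ω ξ p
  haveI := h m hm
  have hp0 : p = 0 := by
    refine (AddCommGrpCat.mono_iff_injective ((stk (A := AddCommGrpCat.{u + 1}) ξ).map (m • 𝟙 F))).1 inferInstance ?_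
    rw [nsmul_map_stk, CategoryTheory.Functor.map_id, map_zero]
    exact hp
  rw [hp0, map_zero]

variable (I : CochainComplex (EtCoh.Ab X) ℤ)

/-- The differential of the torsion part. -/
def torD (i j : ℤ) : tor (I.X i) ⟶ tor (I.X j) :=
  (exists_lift_torι (isTorsion_tor (I.X i)) (I.X j) (torι (I.X i) ≫ I.d i j)).choose

theorem torD_comp (i j : ℤ) : torD I i j ≫ torι (I.X j) = torι (I.X i) ≫ I.d i j :=
  (exists_lift_torι (isTorsion_tor (I.X i)) (I.X j) (torι (I.X i) ≫ I.d i j)).choose_spec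

/-- The torsion part of a complex. -/
def torCx : CochainComplex (EtCoh.Ab X) ℤ where
  X n := tor (I.X n)
  d := torD I
  shape i j h := (cancel_mono (torι (I.X j))).1 (by rw [torD_comp, I.shape i j h, comp_zero, zero_comp])
  d_comp_d' i j k _ _ := (cancel_mono (torι (I.X k))).1 (by
    rw [Category.assoc, torD_comp, ← Category.assoc, torD_comp, Category.assoc, I.d_comp_d, comp_zero, zero_comp])

/-- Its inclusion. -/
def torCxι : torCx I ⟶ I where
  f n := torι (I.X n)
  comm' i j _ := (torD_comp I i j).symm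

instance mono_torCxι : Mono (torCxι I) :=
  haveI : ∀ n, Mono ((torCxι I).f n) := fun n => mono_torι (I.X n)
  HomologicalComplex.mono_of_mono_f _ inferInstance

theorem isStrictlyGE_torCx (a : ℤ) [I.IsStrictlyGE a] : (torCx I).IsStrictlyGE a :=
  (CochainComplex.isStrictlyGE_iff _ _).2 fun i hi =>
    IsZero.of_mono (torι (I.X i)) ((CochainComplex.isZero_of_isStrictlyGE I a i hi))

/-- For injective terms and torsion cohomology the torsion part computes the cohomology. -/
theorem quasiIso_torCxι (hI : ∀ n, Injective (I.X n)) (hH : ∀ n, EtCoh.IsTorsion (I.homology n)) :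
    QuasiIso (torCxι I) := by
  haveI : CategoryWithHomology (CochainComplex (EtCoh.Ab X) ℤ) :=
    @categoryWithHomology_of_abelian (CochainComplex (EtCoh.Ab X) ℤ) _ inferInstance
  let S : ShortComplex (CochainComplex (EtCoh.Ab X) ℤ) :=
    ShortComplex.mk (torCxι I) (cokernel.π (torCxι I)) (cokernel.condition _)
  have hS : S.ShortExact := { exact := ShortComplex.exact_of_g_is_cokernel _ (cokernelIsCokernel _) }
  have hiso : ∀ (m : ℕ), 0 < m → ∀ i, IsIso (m • 𝟙 (S.X₃.X i)) := fun m hm i => by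
    have hd := hS.map_of_exact (HomologicalComplex.eval (EtCoh.Ab X) (ComplexShape.up ℤ) i)
    haveI : Epi (S.g.f i) := hd.epi_g
    haveI := hI i
    haveI := epi_nsmul (I.X i) hm
    haveI : Epi (S.g.f i ≫ (m • 𝟙 (S.X₃.X i))) := by
      rw [Preadditive.comp_nsmul, Category.comp_id, ← Category.id_comp (S.g.f i), ← Preadditive.nsmul_comp]
      exact epi_comp _ _
    haveI : Epi (m • 𝟙 (S.X₃.X i)) := epi_of_epi (S.g.f i) _
    haveI : Mono (m • 𝟙 (S.X₃.X i)) := by
      refine (mono_iff_stalks _).2 fun Ω _ _ ξ => (AddCommGrpCat.mono_iff_injective _).2 ?_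
      let F := stk (A := AddCommGrpCat.{u + 1}) ξ
      refine (injective_iff_map_eq_zero _).2 fun q hq => ?_
      rw [nsmul_map_stk, CategoryTheory.Functor.map_id] at hq
      obtain ⟨x, rfl⟩ := (AddCommGrpCat.epi_iff_surjective (F.map (S.g.f i))).1 inferInstance q
      obtain ⟨t, ht⟩ := (ShortComplex.ab_exact_iff _).1 (hd.exact.map F) (m • x) (by
        show F.map (S.g.f i) (m • x) = 0
        rw [map_nsmul]
        exact hq)
      obtain ⟨k, hk, hkt⟩ := torsionBy_of_isTorsion (isTorsion_tor (I.X i)) Ω ξ t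
      obtain ⟨z, hz⟩ := exists_stk_torι (I.X i) ξ x (k * m) (Nat.mul_pos hk hm) (by
        rw [mul_smul, ← ht]
        exact (map_nsmul _ _ _).symm.trans ((congrArg _ hkt).trans (map_zero _)))
      rw [← hz]
      show F.map (S.g.f i) (F.map (S.f.f i) z) = 0
      rw [← ConcreteCategory.comp_apply, ← F.map_comp, show S.f.f i ≫ S.g.f i = 0 from
        (S.map (HomologicalComplex.eval (EtCoh.Ab X) (ComplexShape.up ℤ) i)).zero, F.map_zero]
      rfl
    exact isIso_of_mono_of_epi _
  have hQ : ∀ i, IsZero (S.X₃.homology i) := fun i => by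
    refine isZero_of_isTorsion (isTorsion_X₂ (hS.homology_exact₃ i (i + 1) rfl) (hH i) ?_) fun m hm => ?_
    · exact isTorsion_homology (torCx I) (i + 1) (isTorsion_tor _)
    · haveI : ∀ j, IsIso ((m • 𝟙 S.X₃ : S.X₃ ⟶ S.X₃).f j) := fun j => by
        rw [HomologicalComplex.nsmul_f_apply]
        exact hiso m hm j
      haveI : IsIso (m • 𝟙 S.X₃ : S.X₃ ⟶ S.X₃) := HomologicalComplex.Hom.isIso_of_components _
      have e : HomologicalComplex.homologyMap (m • 𝟙 S.X₃) i = m • 𝟙 (S.X₃.homology i) :=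
        ((HomologicalComplex.homologyFunctor (EtCoh.Ab X) (ComplexShape.up ℤ) i).map_nsmul).trans
          (congrArg (m • ·) (CategoryTheory.Functor.map_id _ _))
      rw [← e]
      infer_instance
  refine ⟨fun i => ?_⟩
  rw [quasiIsoAt_iff_isIso_homologyMap]
  haveI : Mono (HomologicalComplex.homologyMap S.f i) :=
    (hS.homology_exact₁ (i - 1) i (by simp)).mono_g ((hQ (i - 1)).eq_of_src _ _)
  haveI : Epi (HomologicalComplex.homologyMap S.f i) :=
    (hS.homology_exact₂ i).epi_f ((hQ i).eq_of_tgt _ _)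
  exact isIso_of_mono_of_epi (HomologicalComplex.homologyMap S.f i)

end EtPBCDLib

end
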